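/-
The checks for type B2.
-/
import Cfsg.Agent.Lib.Chev.BGL.Check

set_option autoImplicit false

namespace Cfsg.Agent.Chev

namespace BGL

theorem alpha_B2 : ckAlpha B2.pk 7 (isLong B2.pk) = true := by decide +kernel

theorem out_B2 : ckOut B2.pk = true := by decide +kernel

theorem inv_B2 : ckInv B2.pk (isLong B2.pk) 5 5 = true := by decide +kernel

theorem ub0_B2 : ckUB B2.pk 0 = true := by decide +kernel

theorem ub3_B2 : ckUB B2.pk 3 = true := by decide +kernel

theorem ub2_B2 : ((posL B2.pk).all fun r => ckB B2.pk 2 r &&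
    (ckA B2.pk 2 r || Nat.beq r 6)) = true := by decide +kernel

end BGL

end Cfsg.Agent.Chev
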