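/-
The checks for type D4.
-/
import Cfsg.Agent.Lib.Chev.BGL.Check

set_option autoImplicit false

namespace Cfsg.Agent.Chev

namespace BGL

theorem alpha_D4 : ckAlpha D4.pk 23 (fun _ => true) = true := by decide +kernel

theorem out_D4 : ckOut D4.pk = true := by decide +kernel

theorem inv_D4 : ckInv D4.pk (fun _ => true) 18 13 = true := by decide +kernel

theorem cls_D4 : ckCls D4.pk (fun _ => true) 0 0 = true := by decide +kernel

theorem ub0_D4 : ckUB D4.pk 0 = true := by decide +kernel

theorem mul0_D4 : ckMul D4.pk 0 (fun _ => true) = true := by decide +kernel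

theorem ub2_D4 : ckUB D4.pk 2 = true := by decide +kernel

theorem mul2_D4 : ckMul D4.pk 2 (fun _ => true) = true := by decide +kernel

theorem ub3_D4 : ckUB D4.pk 3 = true := by decide +kernel

theorem mul3_D4 : ckMul D4.pk 3 (fun _ => true) = true := by decide +kernel

end BGL

end Cfsg.Agent.Chev
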