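/-
The checks for type E6.
-/
import Cfsg.Agent.Lib.Chev.BGL.Check

set_option autoImplicit false

namespace Cfsg.Agent.Chev

namespace BGL

theorem alpha_E6 : ckAlpha E6.pk 71 (fun _ => true) = true := by decide +kernel

theorem out_E6 : ckOut E6.pk = true := by decide +kernel

theorem inv_E6 : ckInv E6.pk (fun _ => true) 56 46 = true := by decide +kernel

theorem cls_E6 : ckCls E6.pk (fun _ => true) 0 0 = true := by decide +kernel

theorem ub0_E6 : ckUB E6.pk 0 = true := by decide +kernel

theorem mul0_E6 : ckMul E6.pk 0 (fun _ => true) = true := by decide +kernel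

theorem ub2_E6 : ckUB E6.pk 2 = true := by decide +kernel

theorem mul2_E6 : ckMul E6.pk 2 (fun _ => true) = true := by decide +kernel

theorem ub3_E6 : ckUB E6.pk 3 = true := by decide +kernel

theorem mul3_E6 : ckMul E6.pk 3 (fun _ => true) = true := by decide +kernel

end BGL

end Cfsg.Agent.Chev
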