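/-
The checks for type F4.
-/
import Cfsg.Agent.Lib.Chev.BGL.Check

set_option autoImplicit false

namespace Cfsg.Agent.Chev

namespace BGL

theorem alpha_F4 : ckAlpha F4.pk 47 (isLong F4.pk) = true := by decide +kernel

theorem out_F4 : ckOut F4.pk = true := by decide +kernel

theorem inv_F4 : ckInv F4.pk (isLong F4.pk) 27 27 = true := by decide +kernel

theorem cls_F4 : ckCls F4.pk (isLong F4.pk) 2 0 = true := by decide +kernel

theorem ub0_F4 : ckUB F4.pk 0 = true := by decide +kernel

theorem mul0_F4 : ckMul F4.pk 0 (isLong F4.pk) = true := by decide +kernel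

theorem ub2_F4 : ckUB F4.pk 2 = true := by decide +kernel

theorem mul2_F4 : ckMul F4.pk 2 (isLong F4.pk) = true := by decide +kernel

theorem ub3_F4 : ckUB F4.pk 3 = true := by decide +kernel

theorem mul3_F4 : ckMul F4.pk 3 (isLong F4.pk) = true := by decide +kernel

end BGL

end Cfsg.Agent.Chev
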