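/-
The checks for type G2.
-/
import Cfsg.Agent.Lib.Chev.BGL.Check

set_option autoImplicit false

namespace Cfsg.Agent.Chev

namespace BGL

theorem alpha_G2 : ckAlpha G2.pk 11 (isLong G2.pk) = true := by decide +kernel

theorem out_G2 : ckOut G2.pk = true := by decide +kernel

theorem inv_G2 : ckInv G2.pk (isLong G2.pk) 7 7 = true := by decide +kernel

theorem cls_G2 : ckCls G2.pk (isLong G2.pk) 1 0 = true := by decide +kernel

theorem ub0_G2 : ckUB G2.pk 0 = true := by decide +kernel

theorem mul0_G2 : ckMul G2.pk 0 (isLong G2.pk) = true := by decide +kernel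

theorem ub2_G2 : ckUB G2.pk 2 = true := by decide +kernel

theorem mul2_G2 : ckMul G2.pk 2 (isLong G2.pk) = true := by decide +kernel

theorem ub3_G2 : ckUB G2.pk 3 = true := by decide +kernel

theorem mul3_G2 : ckMul G2.pk 3 (isLong G2.pk) = true := by decide +kernel

end BGL

end Cfsg.Agent.Chev
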